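import Mathlib

/-!
# A thick subcategory with enough injectives of the ambient category: full faithfulness on `D⁺`
-/

set_option autoImplicit false
set_option backward.isDefEq.respectTransparency false
set_option backward.isDefEq.respectTransparency.types false
set_option linter.style.haveILetI false

universe w w' v v' u u'

open CategoryTheory CategoryTheory.Limits HomologicalComplex

namespace Groth.Agent.ThickInjLib

variable {A' : Type u'} [Category.{v'} A'] [Abelian A'] {A : Type u} [Category.{v} A] [Abelian A]
  (ι : A' ⥤ A) [ι.Additive] [PreservesFiniteLimits ι] [PreservesFiniteColimits ι] [ι.Full] [ι.Faithful]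
  (hinj : ∀ X' : A', ∃ (Y' : A') (i : X' ⟶ Y'), Mono i ∧ Injective (ι.obj Y'))

theorem injective_of_injective_obj (Y : A') [Injective (ι.obj Y)] : Injective Y where
  factors {U V} g f hf := by
    haveI : Mono (ι.map f) := ι.map_mono f
    refine ⟨ι.preimage (Injective.factorThru (ι.map g) (ι.map f)), ι.map_injective ?_⟩
    rw [ι.map_comp, ι.map_preimage]
    exact Injective.comp_factorThru _ _

include hinj

theorem enoughInjectives : EnoughInjectives A' :=
  ⟨fun X => by
    obtain ⟨Y, i, hi, hY⟩ := hinj X
    exact ⟨{ J := Y, injective := injective_of_injective_obj ι Y, f := i, mono := hi }⟩⟩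

theorem injective_obj (I : A') [Injective I] : Injective (ι.obj I) := by
  obtain ⟨Y, i, hi, hY⟩ := hinj I
  let r : Y ⟶ I := Injective.factorThru (𝟙 I) i
  have hr : i ≫ r = 𝟙 I := Injective.comp_factorThru _ _
  refine ⟨fun {U V} g f _ => ?_⟩
  refine ⟨Injective.factorThru (g ≫ ι.map i) f ≫ ι.map r, ?_⟩
  rw [← Category.assoc, Injective.comp_factorThru, Category.assoc, ← ι.map_comp, hr,
    CategoryTheory.Functor.map_id, Category.comp_id]

variable [HasDerivedCategory.{w'} A'] [HasDerivedCategory.{w} A]

theorem map_bijective (X Y : DerivedCategory A') (a b : ℤ) [X.IsGE a] [Y.IsGE b] :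
    Function.Bijective (fun f : X ⟶ Y => ι.mapDerivedCategory.map f) := by
  haveI := enoughInjectives ι hinj
  obtain ⟨K, -, ⟨eX⟩⟩ := DerivedCategory.exists_iso_Q_obj_of_isGE X a
  obtain ⟨K', hK', ⟨eY⟩⟩ := DerivedCategory.exists_iso_Q_obj_of_isGE Y b
  obtain ⟨L, i, _, _, _⟩ := CochainComplex.Plus.modelCategoryQuillen.exists_quasiIso_injective K' b
  haveI : ∀ n, Injective (((ι.mapHomologicalComplex (ComplexShape.up ℤ)).obj L).X n) := fun n =>
    injective_obj ι hinj (L.X n)
  haveI : CochainComplex.IsStrictlyGE ((ι.mapHomologicalComplex (ComplexShape.up ℤ)).obj L) b :=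
    (CochainComplex.isStrictlyGE_mapHomologicalComplex_obj_iff _ ι b).2 inferInstance
  haveI : CochainComplex.IsKInjective L := CochainComplex.isKInjective_of_injective L b
  haveI : CochainComplex.IsKInjective ((ι.mapHomologicalComplex (ComplexShape.up ℤ)).obj L) :=
    CochainComplex.isKInjective_of_injective _ b
  let P := (HomotopyCategory.quotient A' (ComplexShape.up ℤ)).obj K
  let R := (HomotopyCategory.quotient A' (ComplexShape.up ℤ)).obj L
  haveI : IsIso (DerivedCategory.Q.map i) := inferInstance
  let eX' : X ≅ DerivedCategory.Qh.obj P := eX ≪≫ ((DerivedCategory.quotientCompQhIso A').app K).symm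
  let eY' : Y ≅ DerivedCategory.Qh.obj R :=
    eY ≪≫ asIso (DerivedCategory.Q.map i) ≪≫ ((DerivedCategory.quotientCompQhIso A').app L).symm
  have h₁ : Function.Bijective (fun f : P ⟶ R => DerivedCategory.Qh.map f) :=
    CochainComplex.IsKInjective.Qh_map_bijective P L
  have h₂ : Function.Bijective (fun f : (ι.mapHomotopyCategory (ComplexShape.up ℤ)).obj P ⟶
      (ι.mapHomotopyCategory (ComplexShape.up ℤ)).obj R => DerivedCategory.Qh.map f) :=
    CochainComplex.IsKInjective.Qh_map_bijective _ ((ι.mapHomologicalComplex (ComplexShape.up ℤ)).obj L)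
  have h₃ : Function.Bijective (fun f : P ⟶ R => (ι.mapHomotopyCategory (ComplexShape.up ℤ)).map f) :=
    ⟨fun _ _ h => (ι.mapHomotopyCategory _).map_injective h, fun g => (ι.mapHomotopyCategory _).map_surjective g⟩
  let e := ι.mapDerivedCategoryFactorsh
  have h₄ : Function.Bijective (fun f : DerivedCategory.Qh.obj P ⟶ DerivedCategory.Qh.obj R =>
      ι.mapDerivedCategory.map f) := by
    rw [← Function.Bijective.of_comp_iff _ h₁]
    refine Eq.mp (congrArg Function.Bijective (funext fun f => ?_))
      (((e.app P).homCongr (e.app R)).symm.bijective.comp (h₂.comp h₃))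
    change (e.app P).hom ≫ DerivedCategory.Qh.map ((ι.mapHomotopyCategory _).map f) ≫ (e.app R).inv =
      ι.mapDerivedCategory.map (DerivedCategory.Qh.map f)
    rw [← Iso.eq_inv_comp]
    exact e.inv.naturality f
  refine Eq.mp (congrArg Function.Bijective (funext fun f => ?_))
    (((ι.mapDerivedCategory.mapIso eX').homCongr (ι.mapDerivedCategory.mapIso eY')).symm.bijective.comp
      (h₄.comp (eX'.homCongr eY').bijective))
  simp only [Function.comp_apply, Iso.homCongr_apply, Iso.homCongr_symm, Iso.symm_hom, Iso.symm_inv,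
    Functor.mapIso_hom, Functor.mapIso_inv, ← Functor.map_comp]
  simp

end Groth.Agent.ThickInjLib
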