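import Groth.Agent.ThickInjLib.Resolution

/-!
# Essential image of a thick subcategory with enough injectives on bounded below objects
-/

set_option autoImplicit false
set_option backward.isDefEq.respectTransparency false
set_option backward.isDefEq.respectTransparency.types false
set_option linter.style.haveILetI false

universe w w' v v' u u'

open CategoryTheory CategoryTheory.Limits HomologicalComplex

namespace Groth.Agent.ThickInjLib

variable {A' : Type u'} [Category.{v'} A'] [Abelian A'] {A : Type u} [Category.{v} A] [Abelian A]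
  (ι : A' ⥤ A) [ι.Additive]

lemma conj_comm' {X Y X' Y' U V : A} (p : X ⟶ Y) (α : X' ≅ Y) (d : Y ⟶ U) (β : V ≅ U) (r : U ⟶ Y')
    (s : Y' ⟶ U) (h : r ≫ s = 𝟙 U) :
    (p ≫ α.inv) ≫ α.hom ≫ d ≫ β.inv = (p ≫ d ≫ r) ≫ s ≫ β.inv := by
  simp only [Category.assoc, Iso.inv_hom_id_assoc, reassoc_of% h]

/-- Extension by zero commutes with the functor, degreewise. -/
noncomputable def mapExtendXIso (K : CochainComplex A' ℕ) (n : ℤ) :
    ι.obj ((K.extend ComplexShape.embeddingUpNat).X n) ≅
      (((ι.mapHomologicalComplex _).obj K).extend ComplexShape.embeddingUpNat).X n :=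
  if h : 0 ≤ n then
    ι.mapIso (K.extendXIso ComplexShape.embeddingUpNat (i := n.toNat) (Int.toNat_of_nonneg h)) ≪≫
      (((ι.mapHomologicalComplex _).obj K).extendXIso ComplexShape.embeddingUpNat (i := n.toNat)
        (Int.toNat_of_nonneg h)).symm
  else
    (ι.map_isZero (K.isZero_extend_X ComplexShape.embeddingUpNat n (by intro i hi; simp at hi; lia))).iso
      (((ι.mapHomologicalComplex _).obj K).isZero_extend_X ComplexShape.embeddingUpNat n
        (by intro i hi; simp at hi; lia))

/-- Extension by zero commutes with the functor. -/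
noncomputable def mapExtendIso (K : CochainComplex A' ℕ) :
    (ι.mapHomologicalComplex _).obj (K.extend ComplexShape.embeddingUpNat) ≅
      ((ι.mapHomologicalComplex _).obj K).extend ComplexShape.embeddingUpNat :=
  HomologicalComplex.Hom.isoOfComponents (mapExtendXIso ι K) (by
    rintro n _ rfl
    by_cases h : 0 ≤ n
    · obtain ⟨k, rfl⟩ := Int.eq_ofNat_of_zero_le h
      dsimp [mapExtendXIso]
      rw [dif_pos (show (0 : ℤ) ≤ k + 1 by lia), Functor.mapHomologicalComplex_obj_d,
        K.extend_d_eq ComplexShape.embeddingUpNat (i := (k : ℤ).toNat) (j := ((k : ℤ) + 1).toNat)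
          (by simp) (by simp),
        HomologicalComplex.extend_d_eq _ ComplexShape.embeddingUpNat (i := (k : ℤ).toNat)
          (j := ((k : ℤ) + 1).toNat) (by simp) (by simp)]
      simp only [ι.map_comp, Iso.trans_hom, Iso.symm_hom, Functor.mapIso_hom]
      exact conj_comm' _ _ _ _ _ _ ((ι.map_comp _ _).symm.trans
        ((congrArg ι.map (Iso.inv_hom_id _)).trans (ι.map_id _)))
    · exact (ι.map_isZero (K.isZero_extend_X ComplexShape.embeddingUpNat n
        (by intro i hi; simp at hi; lia))).eq_of_src _ _)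

variable [PreservesFiniteLimits ι] [PreservesFiniteColimits ι] [ι.Full] [ι.Faithful]
  (hext : ∀ S : ShortComplex A, S.ShortExact → ι.essImage S.X₁ → ι.essImage S.X₃ → ι.essImage S.X₂)
  (hinj : ∀ X' : A', ∃ (Y' : A') (i : X' ⟶ Y'), Mono i ∧ Injective (ι.obj Y'))

include hext hinj

theorem exists_resolution_zero (K : CochainComplex A ℤ) [K.IsStrictlyGE 0]
    (hH : ∀ i : ℤ, ι.essImage (K.homology i)) :
    ∃ (J : CochainComplex A' ℤ) (f : K ⟶ (ι.mapHomologicalComplex _).obj J),
      QuasiIso f ∧ J.IsStrictlyGE 0 ∧ ∀ n, Injective (ι.obj (J.X n)) := by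
  let e := ComplexShape.embeddingUpNat
  have hlift : e.HasLift (𝟙 (K.restriction e)) := by
    intro j hj i' hi'
    refine (CochainComplex.isZero_of_isStrictlyGE K 0 i' ?_).eq_of_src _ _
    obtain ⟨hr, hne⟩ := hj
    simp [e] at hi'
    by_contra hcon
    exact hne i'.toNat (by simp [e]; omega)
  let ψ : K ⟶ (K.restriction e).extend e := e.liftExtend _ hlift
  have hψ : ∀ n : ℤ, IsIso (ψ.f n) := by
    intro n
    by_cases h : ∃ k, e.f k = n
    · obtain ⟨k, hk⟩ := h
      rw [e.isIso_liftExtend_f_iff _ hlift hk]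
      exact inferInstanceAs (IsIso (𝟙 _))
    · push_neg at h
      exact isIso_of_source_target_iso_zero _
        (CochainComplex.isZero_of_isStrictlyGE K 0 n (by
          by_contra hn
          exact h n.toNat (by simp [e]; omega))).isoZero
        ((K.restriction e).isZero_extend_X e n h).isoZero
  haveI : IsIso ψ := HomologicalComplex.Hom.isIso_of_components ψ
  obtain ⟨I, f, hf, hI⟩ := exists_resolution_nat ι hext hinj (K := K.restriction e) (fun n =>
    ι.essImage.prop_of_iso (HomologicalComplex.homologyMapIso (asIso ψ) (n : ℤ) ≪≫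
      HomologicalComplex.extendHomologyIso _ _ rfl) (hH n))
  have hqe : QuasiIso (extendMap f e) := (quasiIso_extendMap_iff f e).2 hf
  refine ⟨I.extend e, ψ ≫ extendMap f e ≫ (mapExtendIso ι I).inv, inferInstance, ?_, fun n => ?_⟩
  · rw [CochainComplex.isStrictlyGE_iff]
    exact fun i hi => I.isZero_extend_X e i (fun k => by simp [e]; omega)
  · by_cases h : ∃ k, e.f k = n
    · obtain ⟨k, hk⟩ := h
      haveI := hI k
      exact Injective.of_iso (ι.mapIso (I.extendXIso e hk).symm) ‹_›
    · push_neg at h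
      have hz : IsZero (ι.obj ((I.extend e).X n)) := ι.map_isZero (I.isZero_extend_X e n h)
      exact hz.injective

variable [HasDerivedCategory.{w'} A'] [HasDerivedCategory.{w} A]

theorem exists_preimage (Z : DerivedCategory A) (a : ℤ) [Z.IsGE a]
    (hZ : ∀ i : ℤ, ι.essImage ((DerivedCategory.homologyFunctor A i).obj Z)) :
    ∃ (I : CochainComplex A' ℤ), I.IsStrictlyGE a ∧ (∀ n : ℤ, Injective (ι.obj (I.X n))) ∧
      Nonempty (ι.mapDerivedCategory.obj (DerivedCategory.Q.obj I) ≅ Z) := by
  obtain ⟨K₀, hK₀, ⟨eZ⟩⟩ := DerivedCategory.exists_iso_Q_obj_of_isGE Z a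
  haveI : CochainComplex.IsStrictlyGE (K₀⟦a⟧) 0 := CochainComplex.isStrictlyGE_shift K₀ a a 0 (by omega)
  obtain ⟨J, f, hf, hJ, hinjJ⟩ := exists_resolution_zero ι hext hinj (K₀⟦a⟧) (fun i =>
    ι.essImage.prop_of_iso ((DerivedCategory.homologyFunctor A (a + i)).mapIso eZ ≪≫
      (DerivedCategory.homologyFunctorFactors A (a + i)).app K₀ ≪≫
      (((HomologicalComplex.homologyFunctor A (ComplexShape.up ℤ) 0).shiftIso a i (a + i) rfl).app K₀).symm)
        (hZ (a + i)))
  refine ⟨J⟦-a⟧, CochainComplex.isStrictlyGE_shift J 0 (-a) a (by omega), fun n => hinjJ _, ⟨?_⟩⟩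
  haveI : QuasiIso (f⟦(-a : ℤ)⟧') := inferInstance
  exact ι.mapDerivedCategoryFactors.app (J⟦-a⟧) ≪≫
    DerivedCategory.Q.mapIso (((ι.mapHomologicalComplex (ComplexShape.up ℤ)).commShiftIso (-a)).app J) ≪≫
    (asIso (DerivedCategory.Q.map (f⟦(-a : ℤ)⟧'))).symm ≪≫
    DerivedCategory.Q.mapIso ((shiftFunctorCompIsoId (CochainComplex A ℤ) a (-a) (by omega)).app K₀) ≪≫ eZ.symm

end Groth.Agent.ThickInjLib
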