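import Groth.Agent.DerLib.RightRes
import Groth.Agent.ThickInjLib.FullyFaithful

/-!
# Complexes with cohomology in a thick subcategory having enough injectives of the ambient category
-/

set_option autoImplicit false
set_option backward.isDefEq.respectTransparency false
set_option backward.isDefEq.respectTransparency.types false
set_option linter.style.haveILetI false
set_option linter.unusedSectionVars false

universe w w' v v' u u'

open CategoryTheory CategoryTheory.Limits HomologicalComplex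

namespace Groth.Agent.ThickInjLib

open DerLib.RightRes (pushout_exact cokernel_exact)

variable {A' : Type u'} [Category.{v'} A'] [Abelian A'] {A : Type u} [Category.{v} A] [Abelian A]
  (ι : A' ⥤ A) [ι.Additive] [PreservesFiniteLimits ι] [PreservesFiniteColimits ι] [ι.Full] [ι.Faithful]

/-- Cokernels of maps between objects of the essential image are in the essential image. -/
theorem essImage_cokernel {X Y : A} (f : X ⟶ Y) (hX : ι.essImage X) (hY : ι.essImage Y) :
    ι.essImage (cokernel f) := by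
  obtain ⟨X', ⟨eX⟩⟩ := hX
  obtain ⟨Y', ⟨eY⟩⟩ := hY
  let f' : X' ⟶ Y' := ι.preimage (eX.hom ≫ f ≫ eY.inv)
  exact ⟨cokernel f', ⟨PreservesCokernel.iso ι f' ≪≫ cokernel.mapIso (ι.map f') f eX eY (by simp [f'])⟩⟩

section ExtClosed

variable (hext : ∀ S : ShortComplex A, S.ShortExact → ι.essImage S.X₁ → ι.essImage S.X₃ → ι.essImage S.X₂)
include hext

/-- The pushout lies in the essential image. -/
theorem essImage_pushout {X Z M H H' : A} (d : X ⟶ Z) (c : X ⟶ M) (h : H ⟶ X) (q : Z ⟶ H') (wh : h ≫ d = 0)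
    (wq : d ≫ q = 0) (hh : (ShortComplex.mk h d wh).Exact) (hq : (ShortComplex.mk d q wq).Exact) [Epi q]
    (hH : ι.essImage H) (hH' : ι.essImage H') (hM : ι.essImage M) : ι.essImage (pushout c d) := by
  have w₁ : (h ≫ c) ≫ pushout.inl c d = 0 := by
    rw [Category.assoc, pushout.condition, ← Category.assoc, wh, zero_comp]
  let a : cokernel (h ≫ c) ⟶ pushout c d := cokernel.desc _ (pushout.inl c d) w₁
  let δ : pushout c d ⟶ H' := pushout.desc 0 q (by rw [comp_zero, wq])
  have wad : a ≫ δ = 0 := by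
    rw [← cancel_epi (cokernel.π (h ≫ c))]
    simp [a, δ]
  haveI : Mono a := by
    rw [Preadditive.mono_iff_cancel_zero]
    intro T x hx
    obtain ⟨T₁, π₁, hπ₁, y, hy⟩ := surjective_up_to_refinements_of_epi (cokernel.π (h ≫ c)) x
    have h1 : y ≫ pushout.inl c d + (0 : T₁ ⟶ Z) ≫ pushout.inr c d = 0 := by
      rw [zero_comp, add_zero]
      calc y ≫ pushout.inl c d = (y ≫ cokernel.π (h ≫ c)) ≫ a := by simp [a]
        _ = 0 := by rw [← hy, Category.assoc, hx, comp_zero]
    obtain ⟨T₂, π₂, hπ₂, r, hr₁, hr₂⟩ := pushout_exact _ _ _ _ h1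
    obtain ⟨T₃, π₃, hπ₃, s, hs⟩ := hh.exact_up_to_refinements r (by simpa using hr₂.symm)
    rw [← cancel_epi (π₃ ≫ π₂ ≫ π₁), comp_zero]
    simp only [Category.assoc, hy]
    rw [← Category.assoc π₂, hr₁, Category.assoc, ← Category.assoc π₃, hs]
    simp only [Category.assoc]
    rw [← Category.assoc h, cokernel.condition, comp_zero]
  haveI : Epi δ := epi_of_epi_fac (pushout.inr_desc (0 : M ⟶ H') q (by rw [comp_zero, wq]))
  refine hext (ShortComplex.mk a δ wad) { exact := ?_ } (essImage_cokernel ι _ hH hM) hH'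
  rw [ShortComplex.exact_iff_exact_up_to_refinements]
  intro T x hx
  haveI : Epi (biprod.desc (pushout.inl c d) (pushout.inr c d)) :=
    ⟨fun u v e => pushout.hom_ext (by simpa using biprod.inl ≫= e) (by simpa using biprod.inr ≫= e)⟩
  obtain ⟨T₁, π₁, hπ₁, p, hp⟩ := surjective_up_to_refinements_of_epi
    (biprod.desc (pushout.inl c d) (pushout.inr c d)) x
  have hzq : (p ≫ biprod.snd) ≫ q = 0 := by
    have h1 := congrArg (· ≫ δ) hp
    dsimp at hx
    simp only [Category.assoc, hx, comp_zero] at h1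
    rw [h1, Category.assoc]
    refine congrArg (p ≫ ·) ?_
    apply biprod.hom_ext' <;> simp [δ]
  obtain ⟨T₂, π₂, hπ₂, r, hr⟩ := hq.exact_up_to_refinements (p ≫ biprod.snd) hzq
  refine ⟨T₂, π₂ ≫ π₁, epi_comp _ _, (π₂ ≫ p ≫ biprod.fst + r ≫ c) ≫ cokernel.π (h ≫ c), ?_⟩
  dsimp at hr ⊢
  have hpd : p ≫ biprod.desc (pushout.inl c d) (pushout.inr c d) =
      (p ≫ biprod.fst) ≫ pushout.inl c d + (p ≫ biprod.snd) ≫ pushout.inr c d := by
    rw [biprod.desc_eq, Preadditive.comp_add, Category.assoc, Category.assoc]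
  rw [Category.assoc, hp, hpd, Preadditive.comp_add, ← Category.assoc π₂ (p ≫ biprod.snd), hr]
  simp only [Category.assoc, Preadditive.add_comp, a, cokernel.π_desc, pushout.condition]

end ExtClosed

variable (hext : ∀ S : ShortComplex A, S.ShortExact → ι.essImage S.X₁ → ι.essImage S.X₃ → ι.essImage S.X₂)
  (hinj : ∀ X' : A', ∃ (Y' : A') (i : X' ⟶ Y'), Mono i ∧ Injective (ι.obj Y'))

include hinj in
theorem exists_emb {X : A} (hX : ι.essImage X) :
    ∃ (Y : A') (e : X ⟶ ι.obj Y), Mono e ∧ Injective (ι.obj Y) := by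
  obtain ⟨X', ⟨e⟩⟩ := hX
  obtain ⟨Y, i, hi, hY⟩ := hinj X'
  haveI : Mono (ι.map i) := ι.map_mono i
  exact ⟨Y, e.inv ≫ ι.map i, inferInstance, hY⟩

/-- The chosen object. -/
noncomputable def tgt {X : A} (hX : ι.essImage X) : A' := (exists_emb ι hinj hX).choose

/-- The chosen monomorphism. -/
noncomputable def emb {X : A} (hX : ι.essImage X) : X ⟶ ι.obj (tgt ι hinj hX) :=
  (exists_emb ι hinj hX).choose_spec.choose

instance emb_mono {X : A} (hX : ι.essImage X) : Mono (emb ι hinj hX) :=
  (exists_emb ι hinj hX).choose_spec.choose_spec.1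

instance injective_tgt {X : A} (hX : ι.essImage X) : Injective (ι.obj (tgt ι hinj hX)) :=
  (exists_emb ι hinj hX).choose_spec.choose_spec.2

variable {K : CochainComplex A ℕ} (hH : ∀ n, ι.essImage (K.homology n))

variable (K) in
/-- The state after step `n`. -/
structure St (n : ℕ) where
  L : A'
  C : A
  p : ι.obj L ⟶ C
  α : K.X n ⟶ ι.obj L
  c : K.opcycles n ⟶ C
  epi_p : Epi p
  hC : ι.essImage C
  inj : Injective (ι.obj L)
  α_p : α ≫ p = K.pOpcycles n ≫ c
  mono_c : Mono (K.homologyι n ≫ c)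

include hH in
theorem essImage_cycles_zero : ι.essImage (K.cycles 0) :=
  ι.essImage.prop_of_iso (CochainComplex.isoHomologyπ₀ K).symm (hH 0)

/-- The extension of the embedding of the cycles. -/
noncomputable def α₀ : K.X 0 ⟶ ι.obj (tgt ι hinj (essImage_cycles_zero ι hH)) :=
  Injective.factorThru (emb ι hinj (essImage_cycles_zero ι hH)) (K.iCycles 0)

/-- The initial step. -/
noncomputable def st₀ : St ι K 0 where
  L := tgt ι hinj (essImage_cycles_zero ι hH)
  C := ι.obj (tgt ι hinj (essImage_cycles_zero ι hH))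
  p := 𝟙 _
  α := α₀ ι hinj hH
  c := K.descOpcycles (α₀ ι hinj hH) 0 (by simp) (by rw [K.shape _ _ (by simp), zero_comp])
  epi_p := inferInstance
  hC := ι.obj_mem_essImage _
  inj := inferInstance
  α_p := by simp
  mono_c := by
    have h : K.homologyπ 0 ≫ K.homologyι 0 ≫
        K.descOpcycles (α₀ ι hinj hH) 0 (by simp) (by rw [K.shape _ _ (by simp), zero_comp]) =
          emb ι hinj (essImage_cycles_zero ι hH) := by
      simp [α₀]
    haveI : IsIso (K.homologyπ 0) := (CochainComplex.isoHomologyπ₀ K).isIso_hom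
    rw [show K.homologyι 0 ≫ K.descOpcycles (α₀ ι hinj hH) 0 (by simp) (by rw [K.shape _ _ (by simp), zero_comp]) =
      inv (K.homologyπ 0) ≫ emb ι hinj (essImage_cycles_zero ι hH) from (IsIso.eq_inv_comp _).2 h]
    infer_instance

include hext hH in
theorem essImage_P {n : ℕ} (s : St ι K n) :
    ι.essImage (pushout s.c (K.opcyclesToCycles n (n + 1))) :=
  essImage_pushout ι hext (K.opcyclesToCycles n (n + 1)) s.c (K.homologyι n) (K.homologyπ (n + 1))
    (K.homologyι_opcyclesToCycles n (n + 1)) (K.opcyclesToCycles_homologyπ n (n + 1))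
    (ShortComplex.exact_of_f_is_kernel _ (by
      refine KernelFork.IsLimit.ofι' _ _ fun {T} t ht => ?_
      have ht' : t ≫ K.fromOpcycles n (n + 1) = 0 := by
        rw [← K.opcyclesToCycles_iCycles n (n + 1), ← Category.assoc, ht, zero_comp]
      exact KernelFork.IsLimit.lift' (K.homologyIsKernel n (n + 1) (by simp)) t ht'))
    (by
      rw [ShortComplex.exact_iff_exact_up_to_refinements]
      intro T x hx
      obtain ⟨T₁, π, hπ, y, hy⟩ := ((ShortComplex.mk _ _ (K.toCycles_comp_homologyπ n (n + 1))).exact_of_g_is_cokernel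
        (K.homologyIsCokernel n (n + 1) (by simp))).exact_up_to_refinements x hx
      refine ⟨T₁, π, hπ, y ≫ K.pOpcycles n, ?_⟩
      dsimp at hy ⊢
      rw [Category.assoc, K.pOpcycles_opcyclesToCycles]
      exact hy)
    (hH n) (hH (n + 1)) s.hC

/-- The next map. -/
noncomputable def αNext {n : ℕ} (s : St ι K n) :
    K.X (n + 1) ⟶ ι.obj (tgt ι hinj (essImage_P ι hext hH s)) :=
  Injective.factorThru (pushout.inr s.c (K.opcyclesToCycles n (n + 1)) ≫ emb ι hinj (essImage_P ι hext hH s))
    (K.iCycles (n + 1))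

theorem iCycles_αNext {n : ℕ} (s : St ι K n) :
    K.iCycles (n + 1) ≫ αNext ι hext hinj hH s =
      pushout.inr s.c (K.opcyclesToCycles n (n + 1)) ≫ emb ι hinj (essImage_P ι hext hH s) :=
  Injective.comp_factorThru _ _

theorem d_αNext {n : ℕ} (s : St ι K n) :
    K.d n (n + 1) ≫ αNext ι hext hinj hH s =
      K.pOpcycles n ≫ s.c ≫ pushout.inl s.c (K.opcyclesToCycles n (n + 1)) ≫ emb ι hinj (essImage_P ι hext hH s) := by
  rw [← K.pOpcycles_opcyclesToCycles_iCycles n (n + 1), Category.assoc, Category.assoc, iCycles_αNext,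
    pushout.condition_assoc]

/-- The next step. -/
noncomputable def next {n : ℕ} (s : St ι K n) : St ι K (n + 1) where
  L := tgt ι hinj (essImage_P ι hext hH s)
  C := cokernel (pushout.inl s.c (K.opcyclesToCycles n (n + 1)) ≫ emb ι hinj (essImage_P ι hext hH s))
  p := cokernel.π _
  α := αNext ι hext hinj hH s
  c := K.descOpcycles (αNext ι hext hinj hH s ≫ cokernel.π _) n (by simp) (by
    rw [← Category.assoc, d_αNext]
    simp only [Category.assoc, cokernel.condition, comp_zero])
  epi_p := inferInstance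
  hC := essImage_cokernel ι _ s.hC (ι.obj_mem_essImage _)
  inj := inferInstance
  α_p := by simp
  mono_c := by
    rw [Preadditive.mono_iff_cancel_zero]
    intro T x hx
    obtain ⟨T₁, π₁, hπ₁, z, hz⟩ := surjective_up_to_refinements_of_epi (K.homologyπ (n + 1)) x
    have h1 : (z ≫ pushout.inr s.c (K.opcyclesToCycles n (n + 1)) ≫ emb ι hinj (essImage_P ι hext hH s)) ≫
        cokernel.π (pushout.inl s.c (K.opcyclesToCycles n (n + 1)) ≫ emb ι hinj (essImage_P ι hext hH s)) = 0 := by
      rw [← iCycles_αNext ι hext hinj hH s]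
      refine Eq.trans ?_ ((congrArg (π₁ ≫ ·) hx).trans comp_zero)
      rw [← Category.assoc π₁, hz]
      simp only [Category.assoc, homology_π_ι_assoc, p_descOpcycles]
    obtain ⟨T₂, π₂, hπ₂, y, hy⟩ := cokernel_exact _ _ h1
    have h2 : y ≫ pushout.inl s.c (K.opcyclesToCycles n (n + 1)) +
        (-(π₂ ≫ z)) ≫ pushout.inr s.c (K.opcyclesToCycles n (n + 1)) = 0 := by
      rw [← cancel_mono (emb ι hinj (essImage_P ι hext hH s))]
      simp only [Preadditive.add_comp, Preadditive.neg_comp, Category.assoc, zero_comp]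
      rw [← hy]
      exact add_neg_cancel _
    obtain ⟨T₃, π₃, hπ₃, q, -, hq⟩ := pushout_exact _ _ _ _ h2
    have h3 : π₃ ≫ π₂ ≫ z = q ≫ K.opcyclesToCycles n (n + 1) := by
      rw [Preadditive.comp_neg] at hq
      exact neg_injective hq
    rw [← cancel_epi (π₃ ≫ π₂ ≫ π₁), comp_zero]
    simp only [Category.assoc, hz]
    rw [← Category.assoc π₂, ← Category.assoc π₃, h3, Category.assoc, K.opcyclesToCycles_homologyπ, comp_zero]

/-- All the steps. -/
noncomputable def st : ∀ n, St ι K n
  | 0 => st₀ ι hinj hH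
  | n + 1 => next ι hext hinj hH (st n)

/-- The differential, in the subcategory. -/
noncomputable def dI (n : ℕ) : (st ι hext hinj hH n).L ⟶ (st ι hext hinj hH (n + 1)).L :=
  ι.preimage ((st ι hext hinj hH n).p ≫ pushout.inl _ _ ≫ emb ι hinj (essImage_P ι hext hH (st ι hext hinj hH n)))

theorem map_dI (n : ℕ) : ι.map (dI ι hext hinj hH n) = (st ι hext hinj hH n).p ≫
    pushout.inl (st ι hext hinj hH n).c (K.opcyclesToCycles n (n + 1)) ≫
      emb ι hinj (essImage_P ι hext hH (st ι hext hinj hH n)) :=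
  ι.map_preimage _

theorem dI_p (n : ℕ) : ι.map (dI ι hext hinj hH n) ≫ (st ι hext hinj hH (n + 1)).p = 0 := by
  rw [map_dI]
  change _ ≫ cokernel.π (pushout.inl _ _ ≫ _) = 0
  rw [Category.assoc, cokernel.condition, comp_zero]

/-- The resolution. -/
noncomputable def res : CochainComplex A' ℕ :=
  CochainComplex.of (fun n => (st ι hext hinj hH n).L) (dI ι hext hinj hH) (fun n => ι.map_injective (by
    rw [ι.map_comp, ι.map_zero, map_dI ι hext hinj hH (n + 1), ← Category.assoc, dI_p, zero_comp]))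

theorem res_d (n : ℕ) : (res ι hext hinj hH).d n (n + 1) = dI ι hext hinj hH n :=
  CochainComplex.of_d (fun n => (st ι hext hinj hH n).L) (dI ι hext hinj hH) n

/-- The image of the resolution. -/
noncomputable abbrev ιRes : CochainComplex A ℕ := (ι.mapHomologicalComplex _).obj (res ι hext hinj hH)

/-- The comparison map. -/
noncomputable def toRes : K ⟶ ιRes ι hext hinj hH where
  f n := (st ι hext hinj hH n).α
  comm' i j hij := by
    obtain rfl : i + 1 = j := hij
    change (st ι hext hinj hH i).α ≫ ι.map ((res ι hext hinj hH).d i (i + 1)) =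
      K.d i (i + 1) ≫ αNext ι hext hinj hH (st ι hext hinj hH i)
    rw [res_d, map_dI, d_αNext, ← Category.assoc, (st ι hext hinj hH i).α_p, Category.assoc]

theorem exact_p : ∀ (n : ℕ) {T : A} (y : T ⟶ (ιRes ι hext hinj hH).X n), y ≫ (st ι hext hinj hH n).p = 0 →
    ∃ (T' : A) (π : T' ⟶ T) (_ : Epi π) (w : T' ⟶ (ιRes ι hext hinj hH).X ((ComplexShape.up ℕ).prev n)),
      π ≫ y = w ≫ (ιRes ι hext hinj hH).d _ n
  | 0, T, y, hy => ⟨T, 𝟙 _, inferInstance, 0, by
      have hy0 : y = 0 := (Category.comp_id y).symm.trans hy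
      rw [hy0]; simp⟩
  | n + 1, T, y, hy => by
      obtain ⟨T₁, π₁, hπ₁, u, hu⟩ := cokernel_exact (pushout.inl (st ι hext hinj hH n).c
        (K.opcyclesToCycles n (n + 1)) ≫ emb ι hinj (essImage_P ι hext hH (st ι hext hinj hH n))) y hy
      haveI := (st ι hext hinj hH n).epi_p
      obtain ⟨T₂, π₂, hπ₂, w, hw⟩ := surjective_up_to_refinements_of_epi (st ι hext hinj hH n).p u
      have hprev : (ComplexShape.up ℕ).prev (n + 1) = n := (ComplexShape.up ℕ).prev_eq' rfl
      rw [hprev]
      refine ⟨T₂, π₂ ≫ π₁, inferInstance, w, ?_⟩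
      change (π₂ ≫ π₁) ≫ y = w ≫ ι.map ((res ι hext hinj hH).d n (n + 1))
      rw [res_d, map_dI]
      refine (Category.assoc _ _ _).trans ((congrArg (π₂ ≫ ·) hu).trans ?_)
      exact ((Category.assoc _ _ _).symm.trans (congrArg (· ≫ _) hw)).trans (Category.assoc _ _ _)

theorem quasiIso_toRes : QuasiIso (toRes ι hext hinj hH) := by
  rw [quasiIso_iff]
  intro n
  rw [quasiIsoAt_iff_isIso_homologyMap]
  have hnext : (ComplexShape.up ℕ).next n = n + 1 := (ComplexShape.up ℕ).next_eq' rfl
  have hdI : (ιRes ι hext hinj hH).d n (n + 1) = ι.map (dI ι hext hinj hH n) :=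
    congrArg ι.map (res_d ι hext hinj hH n)
  have hf : (toRes ι hext hinj hH).f n ≫ (st ι hext hinj hH n).p = K.pOpcycles n ≫ (st ι hext hinj hH n).c :=
    (st ι hext hinj hH n).α_p
  haveI := (st ι hext hinj hH n).mono_c
  have : Mono (homologyMap (toRes ι hext hinj hH) n) := by
    rw [mono_homologyMap_iff_up_to_refinements _ _ _ _ rfl hnext]
    intro T x hx y hy
    have hdp : (ιRes ι hext hinj hH).d ((ComplexShape.up ℕ).prev n) n ≫ (st ι hext hinj hH n).p = 0 := by
      cases n with
      | zero => rw [(ιRes ι hext hinj hH).shape _ _ (by simp), zero_comp]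
      | succ k =>
        rw [(ComplexShape.up ℕ).prev_eq' (show (ComplexShape.up ℕ).Rel k (k + 1) from rfl)]
        change ι.map ((res ι hext hinj hH).d k (k + 1)) ≫ _ = 0
        rw [res_d, dI_p]
    have h : (K.liftCycles x (n + 1) hnext hx ≫ K.homologyπ n) ≫ K.homologyι n ≫ (st ι hext hinj hH n).c = 0 := by
      simp only [Category.assoc, homology_π_ι_assoc, liftCycles_i_assoc]
      rw [← hf, ← Category.assoc, hy, Category.assoc, hdp, comp_zero]
    have h' : x ≫ K.pOpcycles n = 0 := by
      have := congrArg (· ≫ K.homologyι n) ((cancel_mono (K.homologyι n ≫ (st ι hext hinj hH n).c)).1 (h.trans zero_comp.symm))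
      simpa using this
    exact (K.comp_pOpcycles_eq_zero_iff_up_to_refinements x _ rfl).1 h'
  have : Epi (homologyMap (toRes ι hext hinj hH) n) := by
    rw [epi_homologyMap_iff_up_to_refinements _ _ _ _ rfl hnext]
    intro T y hy
    rw [hdI, map_dI] at hy
    have h1 : (y ≫ (st ι hext hinj hH n).p) ≫ pushout.inl (st ι hext hinj hH n).c (K.opcyclesToCycles n (n + 1)) +
        (0 : T ⟶ K.cycles (n + 1)) ≫ pushout.inr (st ι hext hinj hH n).c (K.opcyclesToCycles n (n + 1)) = 0 := by
      rw [← cancel_mono (emb ι hinj (essImage_P ι hext hH (st ι hext hinj hH n))), zero_comp, add_zero, zero_comp]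
      exact (Category.assoc _ _ _).trans ((Category.assoc _ _ _).trans hy)
    obtain ⟨T₁, π₁, hπ₁, q, hqc, hqd'⟩ := pushout_exact _ _ _ _ h1
    have hqd : q ≫ K.opcyclesToCycles n (n + 1) = 0 := by simpa using hqd'.symm
    obtain ⟨T₂, π₂, hπ₂, z, hz⟩ := surjective_up_to_refinements_of_epi (K.pOpcycles n) q
    have hzd : z ≫ K.d n (n + 1) = 0 := by
      rw [← K.pOpcycles_opcyclesToCycles_iCycles n (n + 1), ← Category.assoc, ← hz, Category.assoc,
        ← Category.assoc q, hqd, zero_comp, comp_zero]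
    have hzp : (π₂ ≫ π₁ ≫ y - z ≫ (toRes ι hext hinj hH).f n) ≫ (st ι hext hinj hH n).p = 0 := by
      rw [Preadditive.sub_comp, Category.assoc, Category.assoc, hqc, Category.assoc, hf,
        ← Category.assoc z, ← hz, Category.assoc, sub_self]
    obtain ⟨T₃, π₃, hπ₃, w, hw⟩ := exact_p ι hext hinj hH n _ hzp
    refine ⟨T₃, π₃ ≫ π₂ ≫ π₁, inferInstance, π₃ ≫ z, by rw [Category.assoc, hzd, comp_zero], w, ?_⟩
    rw [← hw, Preadditive.comp_sub]
    simp only [Category.assoc]
    abel
  exact isIso_of_mono_of_epi _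

include hext hinj hH in
theorem exists_resolution_nat : ∃ (I : CochainComplex A' ℕ) (f : K ⟶ (ι.mapHomologicalComplex _).obj I),
    QuasiIso f ∧ ∀ n, Injective (ι.obj (I.X n)) :=
  ⟨res ι hext hinj hH, toRes ι hext hinj hH, quasiIso_toRes ι hext hinj hH,
    fun n => (st ι hext hinj hH n).inj⟩

end Groth.Agent.ThickInjLib
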